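/-
Orbit certificates on vectors of the lattice, checked by running words forward along a spanning tree.
-/
import Cfsg.Agent.Lib.Leech.ModelCheck
import Cfsg.Agent.Lib.Leech.ConfigCount

set_option autoImplicit false

namespace CfsgLeechOrb

open Cfsg CfsgGolay CfsgLeech
open scoped Pointwise

attribute [local irreducible] codeL octadL dodecadL slpCodes

/-- The code of the image of a step; nothing is assumed about it, the checks compare. -/
def stepN : Step → ℕ → ℕ
  | none, c => (List.range 24).foldr (fun k acc =>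
      let h := Nat.div (fieldSum c (blockPts.getD k [])) 2
      acc * 32 + cond ((147496 : ℕ).testBit k) (h - papp c k) (papp c k + 32 - h)) 0
  | some (g, m), c => (List.range 24).foldr (fun k acc =>
      acc * 32 + cond (m.testBit k) (32 - papp c (papp g k)) (papp c (papp g k))) 0

/-- The codes along a word. -/
def runN : List Step → ℕ → List ℕ
  | [], _ => []
  | s :: w, c => stepN s c :: runN w (stepN s c)

/-- Reading a list stored in blocks of 64. -/
def get64 (T : List (List ℕ)) (i : ℕ) : ℕ := (T.getD (i / 64) []).getD (i % 64) 0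

/-- The tree edge into point `i`: parent times sixteen plus the index of the word. -/
def edgeOK (ws : List (List Step)) (L P : List (List ℕ)) (i : ℕ) : Bool :=
  let q := get64 P i
  let w := ws.getD (q % 16) []
  let c := get64 L (q / 16)
  let l := runN w c
  Nat.blt (q % 16) ws.length && Nat.blt (q / 16) i && Nat.blt (get64 L i) (2 ^ 120) && pathOK w c l &&
    Nat.beq (pathEnd c l) (get64 L i)

/-- A range of edges. -/
def edgesPart (ws : List (List Step)) (L P : List (List ℕ)) (a b : ℕ) : Bool :=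
  (List.range (b - a)).all fun d => edgeOK ws L P (a + d)

/-- An ordering of the points by strictly increasing code. -/
def sortedOK (L S : List (List ℕ)) (n : ℕ) : Bool :=
  (List.range n).all fun k => Nat.blt (get64 S k) n &&
    (Nat.ble n (k + 1) || Nat.blt (get64 L (get64 S k)) (get64 L (get64 S (k + 1))))

/-- A word keeps a list of vectors. -/
def keepsOK (w : List Step) (vs : List ℕ) : Bool :=
  wordOK w && vs.all fun v => pathOK w v (runN w v) && Nat.beq (pathEnd v (runN w v)) v

theorem of_part {ws : List (List Step)} {L P : List (List ℕ)} {a b i : ℕ}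
    (h : edgesPart ws L P a b = true) (ha : a ≤ i) (hb : i < b) : edgeOK ws L P i = true := by
  have := List.all_eq_true.mp h (i - a) (List.mem_range.mpr (by omega))
  rwa [Nat.add_sub_cancel' ha] at this

theorem word_elem {w : List Step} {vs : List ℕ} (h : keepsOK w vs = true) :
    ∃ g : ↥Co0, (∀ y : ↥leechLattice, ((g • y : ↥leechLattice) : GolayPt → ℤ) = runW w y) ∧
      ∀ v ∈ vs, ∀ y : ↥leechLattice, (y : GolayPt → ℤ) = vecN v → g • y = y := by
  simp only [keepsOK, Bool.and_eq_true, List.all_eq_true] at h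
  obtain ⟨g, hg⟩ := exists_word_aut h.1
  refine ⟨g, hg, fun v hv y hy => Subtype.ext ?_⟩
  rw [hg, hy, runW_path w v _ (h.2 v hv).1, Nat.eq_of_beq_eq_true (h.2 v hv).2]

theorem tree_orbit {K : Subgroup ↥Co0} {vs : List ℕ}
    (hK : ∀ g : ↥Co0, (∀ v ∈ vs, ∀ y : ↥leechLattice, (y : GolayPt → ℤ) = vecN v → g • y = y) → g ∈ K)
    {ws : List (List Step)} (hws : (ws.all fun w => keepsOK w vs) = true) {L P : List (List ℕ)} {n : ℕ}
    (r : ↥leechLattice) (hr : (r : GolayPt → ℤ) = vecN (get64 L 0))
    (he : ∀ i, 0 < i → i < n → edgeOK ws L P i = true) :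
    ∀ i < n, ∃ y ∈ MulAction.orbit ↥K r, (y : GolayPt → ℤ) = vecN (get64 L i) := by
  intro i
  induction i using Nat.strong_induction_on with
  | _ i ih =>
    intro hi
    rcases Nat.eq_zero_or_pos i with rfl | hpos
    · exact ⟨r, MulAction.mem_orbit_self r, hr⟩
    have h := he i hpos hi
    simp only [edgeOK, Bool.and_eq_true, Nat.blt_eq] at h
    obtain ⟨⟨⟨⟨hk, hp⟩, -⟩, hpath⟩, hend⟩ := h
    obtain ⟨y, hy, hyv⟩ := ih _ hp (hp.trans hi)
    have hw : ws.getD (get64 P i % 16) [] ∈ ws := by
      rw [List.getD_eq_getElem _ _ hk]; exact List.getElem_mem hk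
    obtain ⟨g, hg, hfix⟩ := word_elem (List.all_eq_true.mp hws _ hw)
    obtain ⟨k, rfl⟩ := hy
    refine ⟨g • (k • r), ⟨⟨g, hK g hfix⟩ * k, ?_⟩, ?_⟩
    · simp only [mul_smul]; rfl
    · rw [hg, hyv, runW_path _ _ _ hpath, Nat.eq_of_beq_eq_true hend]

theorem tree_card {K : Subgroup ↥Co0} {vs : List ℕ}
    (hK : ∀ g : ↥Co0, (∀ v ∈ vs, ∀ y : ↥leechLattice, (y : GolayPt → ℤ) = vecN v → g • y = y) → g ∈ K)
    {ws : List (List Step)} (hws : (ws.all fun w => keepsOK w vs) = true) {L P S : List (List ℕ)} {n : ℕ}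
    (r : ↥leechLattice) (hr : (r : GolayPt → ℤ) = vecN (get64 L 0)) (h0 : get64 L 0 < 2 ^ 120)
    (he : ∀ i, 0 < i → i < n → edgeOK ws L P i = true) (hs : sortedOK L S n = true)
    (hfin : (MulAction.orbit ↥K r).Finite) : n ≤ (MulAction.orbit ↥K r).ncard := by
  have horb := tree_orbit hK hws r hr he
  simp only [sortedOK, List.all_eq_true, List.mem_range, Bool.and_eq_true, Bool.or_eq_true, Nat.blt_eq,
    Nat.ble_eq] at hs
  have hlt : ∀ i < n, get64 L i < 2 ^ 120 := fun i hi => by
    rcases Nat.eq_zero_or_pos i with rfl | hpos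
    · exact h0
    · have := he i hpos hi
      simp only [edgeOK, Bool.and_eq_true, Nat.blt_eq] at this
      exact this.1.1.2
  have hmono : ∀ b < n, ∀ a < b, get64 L (get64 S a) < get64 L (get64 S b) := by
    intro b
    induction b with
    | zero => intro _ a ha; omega
    | succ b ih =>
      intro hb a ha
      have h1 : get64 L (get64 S b) < get64 L (get64 S (b + 1)) :=
        (hs b (by omega)).2.resolve_left (by omega)
      rcases Nat.lt_or_eq_of_le (Nat.lt_succ_iff.mp ha) with h | rfl
      · exact (ih (by omega) a h).trans h1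
      · exact h1
  choose! y hy hyv using fun k (hk : k < n) => horb (get64 S k) (hs k hk).1
  refine le_of_eq_of_le (Nat.card_fin n).symm (le_of_le_of_eq ?_ (Nat.card_coe_set_eq _))
  haveI := hfin.to_subtype
  refine Nat.card_le_card_of_injective (fun k : Fin n => (⟨y k, hy k k.2⟩ : ↥(MulAction.orbit ↥K r))) ?_
  intro a b hab
  have h : vecN (get64 L (get64 S a)) = vecN (get64 L (get64 S b)) := by
    rw [← hyv a a.2, ← hyv b b.2]
    exact congrArg (fun z : ↥(MulAction.orbit ↥K r) => ((z : ↥leechLattice) : GolayPt → ℤ)) hab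
  have h' := vecN_inj (hlt _ (hs a a.2).1) (hlt _ (hs b b.2).1) h
  rcases lt_trichotomy (a : ℕ) b with hlt' | heq | hlt'
  · exact absurd h' (hmono b b.2 a hlt').ne
  · exact Fin.ext heq
  · exact absurd h' (hmono a a.2 b hlt').ne'

/-- Orbits filling a finite set that are told apart by an invariant. -/
theorem orbits_fill {α : Type} {T : Set α} (hT : T.Finite) {ι : Type} (s : Finset ι) {O : ι → Set α}
    {f : α → ℤ} {d : ι → ℤ} (hinj : Set.InjOn d s) (hsub : ∀ i ∈ s, O i ⊆ {y | y ∈ T ∧ f y = d i})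
    (hcard : T.ncard ≤ ∑ i ∈ s, (O i).ncard) (i : ι) (hi : i ∈ s) : {y | y ∈ T ∧ f y = d i} = O i := by
  classical
  have hfin : ∀ j ∈ s, (O j).Finite := fun j hj => hT.subset fun y hy => (hsub j hj hy).1
  have hdis : (s : Set ι).PairwiseDisjoint O := fun j hj k hk hjk =>
    Set.disjoint_left.mpr fun y h1 h2 => hjk (hinj hj hk ((hsub j hj h1).2.symm.trans (hsub k hk h2).2))
  have hU : (⋃ j ∈ s, O j) = T := by
    refine Set.eq_of_subset_of_ncard_le (Set.iUnion₂_subset fun j hj y hy => (hsub j hj hy).1) ?_ hT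
    refine hcard.trans (le_of_eq ?_)
    exact (finsum_mem_coe_finset _ s).symm.trans (Set.Finite.ncard_biUnion s.finite_toSet hfin hdis).symm
  refine Set.Subset.antisymm (fun y hy => ?_) (hsub i hi)
  obtain ⟨hy1, hy2⟩ := hy
  rw [← hU] at hy1
  obtain ⟨j, hj, hyj⟩ := Set.mem_iUnion₂.mp hy1
  exact hinj hj hi ((hsub j hj hyj).2.symm.trans hy2) ▸ hyj

end CfsgLeechOrb
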