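/-
Checks of one spanning tree.
-/
import Cfsg.Agent.Lib.LeechOrbit.HsData

set_option autoImplicit false
set_option maxRecDepth 30000

namespace CfsgLeechOrb

open CfsgLeech

theorem sortedHs0 : sortedOK ptsHs0 srtHs0 1100 = true := by decide +kernel

theorem edgesHs0_0 : edgesPart wHs ptsHs0 parHs0 1 701 = true := by decide +kernel

theorem edgesHs0_1 : edgesPart wHs ptsHs0 parHs0 701 1100 = true := by decide +kernel

theorem edgesHs0 (i : ℕ) (h0 : 0 < i) (h1 : i < 1100) : edgeOK wHs ptsHs0 parHs0 i = true := by
  by_cases c0 : i < 701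
  · exact of_part edgesHs0_0 (by omega) c0
  exact of_part edgesHs0_1 (by omega) h1

end CfsgLeechOrb
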