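/-
Checks of one spanning tree.
-/
import Cfsg.Agent.Lib.LeechOrbit.HsData

set_option autoImplicit false
set_option maxRecDepth 30000

namespace CfsgLeechOrb

open CfsgLeech

theorem sortedHs2 : sortedOK ptsHs2 srtHs2 4125 = true := by decide +kernel

theorem edgesHs2_0 : edgesPart wHs ptsHs2 parHs2 1 701 = true := by decide +kernel

theorem edgesHs2_1 : edgesPart wHs ptsHs2 parHs2 701 1401 = true := by decide +kernel

theorem edgesHs2_2 : edgesPart wHs ptsHs2 parHs2 1401 2101 = true := by decide +kernel

theorem edgesHs2_3 : edgesPart wHs ptsHs2 parHs2 2101 2801 = true := by decide +kernel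

theorem edgesHs2_4 : edgesPart wHs ptsHs2 parHs2 2801 3501 = true := by decide +kernel

theorem edgesHs2_5 : edgesPart wHs ptsHs2 parHs2 3501 4125 = true := by decide +kernel

theorem edgesHs2 (i : ℕ) (h0 : 0 < i) (h1 : i < 4125) : edgeOK wHs ptsHs2 parHs2 i = true := by
  by_cases c0 : i < 701
  · exact of_part edgesHs2_0 (by omega) c0
  by_cases c1 : i < 1401
  · exact of_part edgesHs2_1 (by omega) c1
  by_cases c2 : i < 2101
  · exact of_part edgesHs2_2 (by omega) c2
  by_cases c3 : i < 2801
  · exact of_part edgesHs2_3 (by omega) c3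
  by_cases c4 : i < 3501
  · exact of_part edgesHs2_4 (by omega) c4
  exact of_part edgesHs2_5 (by omega) h1

end CfsgLeechOrb
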