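/-
Checks of one spanning tree.
-/
import Cfsg.Agent.Lib.LeechOrbit.HsData

set_option autoImplicit false
set_option maxRecDepth 30000

namespace CfsgLeechOrb

open CfsgLeech

theorem sortedHs3 : sortedOK ptsHs3 srtHs3 352 = true := by decide +kernel

theorem edgesHs3_0 : edgesPart wHs ptsHs3 parHs3 1 352 = true := by decide +kernel

theorem edgesHs3 (i : ℕ) (h0 : 0 < i) (h1 : i < 352) : edgeOK wHs ptsHs3 parHs3 i = true := by
  exact of_part edgesHs3_0 (by omega) h1

end CfsgLeechOrb
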