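/-
Checks of one spanning tree.
-/
import Cfsg.Agent.Lib.LeechOrbit.MclData

set_option autoImplicit false
set_option maxRecDepth 30000

namespace CfsgLeechOrb

open CfsgLeech

theorem sortedMcl0 : sortedOK ptsMcl0 srtMcl0 2025 = true := by decide +kernel

theorem edgesMcl0_0 : edgesPart wMcl ptsMcl0 parMcl0 1 701 = true := by decide +kernel

theorem edgesMcl0_1 : edgesPart wMcl ptsMcl0 parMcl0 701 1401 = true := by decide +kernel

theorem edgesMcl0_2 : edgesPart wMcl ptsMcl0 parMcl0 1401 2025 = true := by decide +kernel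

theorem edgesMcl0 (i : ℕ) (h0 : 0 < i) (h1 : i < 2025) : edgeOK wMcl ptsMcl0 parMcl0 i = true := by
  by_cases c0 : i < 701
  · exact of_part edgesMcl0_0 (by omega) c0
  by_cases c1 : i < 1401
  · exact of_part edgesMcl0_1 (by omega) c1
  exact of_part edgesMcl0_2 (by omega) h1

end CfsgLeechOrb
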