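/-
Checks of one spanning tree.
-/
import Cfsg.Agent.Lib.LeechOrbit.MclData

set_option autoImplicit false
set_option maxRecDepth 30000

namespace CfsgLeechOrb

open CfsgLeech

theorem sortedMcl1 : sortedOK ptsMcl1 srtMcl1 7128 = true := by decide +kernel

theorem edgesMcl1_0 : edgesPart wMcl ptsMcl1 parMcl1 1 701 = true := by decide +kernel

theorem edgesMcl1_1 : edgesPart wMcl ptsMcl1 parMcl1 701 1401 = true := by decide +kernel

theorem edgesMcl1_2 : edgesPart wMcl ptsMcl1 parMcl1 1401 2101 = true := by decide +kernel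

theorem edgesMcl1_3 : edgesPart wMcl ptsMcl1 parMcl1 2101 2801 = true := by decide +kernel

theorem edgesMcl1_4 : edgesPart wMcl ptsMcl1 parMcl1 2801 3501 = true := by decide +kernel

theorem edgesMcl1_5 : edgesPart wMcl ptsMcl1 parMcl1 3501 4201 = true := by decide +kernel

theorem edgesMcl1_6 : edgesPart wMcl ptsMcl1 parMcl1 4201 4901 = true := by decide +kernel

theorem edgesMcl1_7 : edgesPart wMcl ptsMcl1 parMcl1 4901 5601 = true := by decide +kernel

theorem edgesMcl1_8 : edgesPart wMcl ptsMcl1 parMcl1 5601 6301 = true := by decide +kernel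

theorem edgesMcl1_9 : edgesPart wMcl ptsMcl1 parMcl1 6301 7001 = true := by decide +kernel

theorem edgesMcl1_10 : edgesPart wMcl ptsMcl1 parMcl1 7001 7128 = true := by decide +kernel

theorem edgesMcl1 (i : ℕ) (h0 : 0 < i) (h1 : i < 7128) : edgeOK wMcl ptsMcl1 parMcl1 i = true := by
  by_cases c0 : i < 701
  · exact of_part edgesMcl1_0 (by omega) c0
  by_cases c1 : i < 1401
  · exact of_part edgesMcl1_1 (by omega) c1
  by_cases c2 : i < 2101
  · exact of_part edgesMcl1_2 (by omega) c2
  by_cases c3 : i < 2801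
  · exact of_part edgesMcl1_3 (by omega) c3
  by_cases c4 : i < 3501
  · exact of_part edgesMcl1_4 (by omega) c4
  by_cases c5 : i < 4201
  · exact of_part edgesMcl1_5 (by omega) c5
  by_cases c6 : i < 4901
  · exact of_part edgesMcl1_6 (by omega) c6
  by_cases c7 : i < 5601
  · exact of_part edgesMcl1_7 (by omega) c7
  by_cases c8 : i < 6301
  · exact of_part edgesMcl1_8 (by omega) c8
  by_cases c9 : i < 7001
  · exact of_part edgesMcl1_9 (by omega) c9
  exact of_part edgesMcl1_10 (by omega) h1

end CfsgLeechOrb
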