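/-
Checks of one spanning tree.
-/
import Cfsg.Agent.Lib.LeechOrbit.MclM22Data

set_option autoImplicit false
set_option maxRecDepth 30000

namespace CfsgLeechOrb

open CfsgLeech

theorem sortedMclM220 : sortedOK ptsMclM220 srtMclM220 462 = true := by decide +kernel

theorem edgesMclM220_0 : edgesPart wMclM22 ptsMclM220 parMclM220 1 462 = true := by decide +kernel

theorem edgesMclM220 (i : ℕ) (h0 : 0 < i) (h1 : i < 462) : edgeOK wMclM22 ptsMclM220 parMclM220 i = true := by
  exact of_part edgesMclM220_0 (by omega) h1

end CfsgLeechOrb
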