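/-
The stabilisers of the standard pairs and triple are transitive on each level of dot products.
-/
import Cfsg.Agent.Lib.LeechOrbit.Hs0Checks
import Cfsg.Agent.Lib.LeechOrbit.Hs1Checks
import Cfsg.Agent.Lib.LeechOrbit.Hs2Checks
import Cfsg.Agent.Lib.LeechOrbit.Hs3Checks
import Cfsg.Agent.Lib.LeechOrbit.Mcl0Checks
import Cfsg.Agent.Lib.LeechOrbit.Mcl1Checks
import Cfsg.Agent.Lib.LeechOrbit.Mcl2Checks
import Cfsg.Agent.Lib.LeechOrbit.MclM220Checks
import Cfsg.Agent.Lib.LeechOrbit.MclM221Checks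
import Cfsg.Agent.Lib.LeechOrbit.MclM222Checks

set_option autoImplicit false
set_option maxRecDepth 30000

namespace CfsgLeechOrb

open Cfsg CfsgGolay CfsgLeech
open scoped Pointwise

/-- The standard vector of sum of squares 48 in the lattice. -/
def uL : ↥leechLattice := ⟨uStd, uStd_mem⟩

/-- The standard minimal vector with dot product 16. -/
def tL : ↥leechLattice := ⟨tStd, tStd_mem⟩

/-- The standard minimal vector with dot product 24. -/
def aL : ↥leechLattice := ⟨aStd, aStd_mem⟩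

/-- Minimal vectors with dot product 16 against the standard vector. -/
def S16 : Set ↥leechLattice :=
  {y | sqNorm (y : GolayPt → ℤ) = 32 ∧ dotInt uStd (y : GolayPt → ℤ) = 16}

theorem S16_ncard : S16.ncard = 11178 := by
  rw [← is16_count]
  refine image_count (k := 1) (fun x hx => hx.facts.1) fun x => ?_
  rw [one_smul]
  exact ⟨fun h => (classify_dot x.2 h.1).2 h.2, fun h => ⟨h.facts.2.1, h.facts.2.2⟩⟩

theorem S16_finite : S16.Finite := Set.finite_of_ncard_ne_zero (by rw [S16_ncard]; norm_num)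

/-- The stabiliser of the standard configuration of the Higman–Sims group. -/
abbrev KHs : Subgroup ↥Co0 := MulAction.stabilizer ↥Co0 uL ⊓ MulAction.stabilizer ↥Co0 tL

/-- The stabiliser of the standard configuration of the McLaughlin group. -/
abbrev KMcl : Subgroup ↥Co0 := MulAction.stabilizer ↥Co0 uL ⊓ MulAction.stabilizer ↥Co0 aL

/-- The stabiliser of a third vector in the McLaughlin group. -/
abbrev KM22 : Subgroup ↥Co0 := KMcl ⊓ MulAction.stabilizer ↥Co0 tL

theorem codes_eq : (∀ i, vecN (vHs.getD 0 0) i = uStd i) ∧ (∀ i, vecN (vHs.getD 1 0) i = tStd i) ∧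
    (∀ i, vecN (vMcl.getD 0 0) i = uStd i) ∧ (∀ i, vecN (vMcl.getD 1 0) i = aStd i) ∧
    (∀ i, vecN (vMclM22.getD 0 0) i = uStd i) ∧ (∀ i, vecN (vMclM22.getD 1 0) i = aStd i) ∧
    (∀ i, vecN (vMclM22.getD 2 0) i = tStd i) := by decide +kernel

theorem words_ok : (wHs.all fun w => keepsOK w vHs) = true ∧ (wMcl.all fun w => keepsOK w vMcl) = true ∧
    (wMclM22.all fun w => keepsOK w vMclM22) = true := by decide +kernel

theorem getD_mem_of_lt {l : List ℕ} {i : ℕ} (h : i < l.length) : l.getD i 0 ∈ l := by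
  rw [List.getD_eq_getElem _ _ h]; exact List.getElem_mem h

theorem mem_KHs {g : ↥Co0} (h : ∀ v ∈ vHs, ∀ y : ↥leechLattice, (y : GolayPt → ℤ) = vecN v → g • y = y) :
    g ∈ KHs :=
  ⟨MulAction.mem_stabilizer_iff.mpr (h _ (getD_mem_of_lt (show 0 < vHs.length by decide)) uL (funext fun i => (codes_eq.1 i).symm)),
   MulAction.mem_stabilizer_iff.mpr (h _ (getD_mem_of_lt (show 1 < vHs.length by decide)) tL (funext fun i => (codes_eq.2.1 i).symm))⟩

theorem mem_KMcl {g : ↥Co0} (h : ∀ v ∈ vMcl, ∀ y : ↥leechLattice, (y : GolayPt → ℤ) = vecN v → g • y = y) :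
    g ∈ KMcl :=
  ⟨MulAction.mem_stabilizer_iff.mpr (h _ (getD_mem_of_lt (show 0 < vMcl.length by decide)) uL (funext fun i => (codes_eq.2.2.1 i).symm)),
   MulAction.mem_stabilizer_iff.mpr (h _ (getD_mem_of_lt (show 1 < vMcl.length by decide)) aL (funext fun i => (codes_eq.2.2.2.1 i).symm))⟩

theorem mem_KM22 {g : ↥Co0} (h : ∀ v ∈ vMclM22, ∀ y : ↥leechLattice, (y : GolayPt → ℤ) = vecN v → g • y = y) :
    g ∈ KM22 :=
  ⟨⟨MulAction.mem_stabilizer_iff.mpr (h _ (getD_mem_of_lt (show 0 < vMclM22.length by decide)) uL (funext fun i => (codes_eq.2.2.2.2.1 i).symm)),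
    MulAction.mem_stabilizer_iff.mpr (h _ (getD_mem_of_lt (show 1 < vMclM22.length by decide)) aL (funext fun i => (codes_eq.2.2.2.2.2.1 i).symm))⟩,
   MulAction.mem_stabilizer_iff.mpr (h _ (getD_mem_of_lt (show 2 < vMclM22.length by decide)) tL (funext fun i => (codes_eq.2.2.2.2.2.2 i).symm))⟩

theorem tt_dot : dotInt tStd tStd = 32 ∧ dotInt aStd tStd = 0 := by decide +kernel

theorem orbit_dot {K : Subgroup ↥Co0} {p : ↥leechLattice} (hp : ∀ g ∈ K, g • p = p) {r y : ↥leechLattice}
    (hy : y ∈ MulAction.orbit ↥K r) :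
    sqNorm (y : GolayPt → ℤ) = sqNorm (r : GolayPt → ℤ) ∧
      dotInt (p : GolayPt → ℤ) (y : GolayPt → ℤ) = dotInt (p : GolayPt → ℤ) (r : GolayPt → ℤ) := by
  obtain ⟨⟨g, hg⟩, rfl⟩ := hy
  refine ⟨aut_norm g r, ?_⟩
  have := aut_dot g p r
  rw [hp g hg] at this
  exact this

theorem rootHs0 : inLatB (vecN 852206658587909773353650494292509200) = true ∧ sqNorm (vecN 852206658587909773353650494292509200) = 32 ∧ dotInt uStd (vecN 852206658587909773353650494292509200) = 16 ∧
    dotInt tStd (vecN 852206658587909773353650494292509200) = 16 ∧ 852206658587909773353650494292509200 < 2 ^ 120 ∧ get64 ptsHs0 0 = 852206658587909773353650494292509200 := by decide +kernel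

/-- The root of a tree. -/
def rHs0 : ↥leechLattice := ⟨vecN 852206658587909773353650494292509200, inLatB_sound rootHs0.1⟩

theorem subHs0 : MulAction.orbit ↥KHs rHs0 ⊆
    {y | y ∈ S16 ∧ dotInt tStd (y : GolayPt → ℤ) = 16} := fun y hy => by
  have h := orbit_dot (K := KHs) (p := uL) (fun g hg => hg.1) hy
  exact ⟨⟨h.1.trans rootHs0.2.1, h.2.trans rootHs0.2.2.1⟩, (orbit_dot (K := KHs) (p := tL) (fun g hg => hg.2) hy).2.trans rootHs0.2.2.2.1⟩

theorem cardHs0 : 1100 ≤ (MulAction.orbit ↥KHs rHs0).ncard :=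
  tree_card (fun g => mem_KHs) words_ok.1 rHs0 (by rw [rootHs0.2.2.2.2.2]; rfl) (by rw [rootHs0.2.2.2.2.2]; exact rootHs0.2.2.2.2.1) edgesHs0 sortedHs0
    (S16_finite.subset fun y hy => (subHs0 hy).1)

theorem rootHs1 : inLatB (vecN 769211040965649580038703404584221200) = true ∧ sqNorm (vecN 769211040965649580038703404584221200) = 32 ∧ dotInt uStd (vecN 769211040965649580038703404584221200) = 16 ∧
    dotInt tStd (vecN 769211040965649580038703404584221200) = 8 ∧ 769211040965649580038703404584221200 < 2 ^ 120 ∧ get64 ptsHs1 0 = 769211040965649580038703404584221200 := by decide +kernel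

/-- The root of a tree. -/
def rHs1 : ↥leechLattice := ⟨vecN 769211040965649580038703404584221200, inLatB_sound rootHs1.1⟩

theorem subHs1 : MulAction.orbit ↥KHs rHs1 ⊆
    {y | y ∈ S16 ∧ dotInt tStd (y : GolayPt → ℤ) = 8} := fun y hy => by
  have h := orbit_dot (K := KHs) (p := uL) (fun g hg => hg.1) hy
  exact ⟨⟨h.1.trans rootHs1.2.1, h.2.trans rootHs1.2.2.1⟩, (orbit_dot (K := KHs) (p := tL) (fun g hg => hg.2) hy).2.trans rootHs1.2.2.2.1⟩

theorem cardHs1 : 5600 ≤ (MulAction.orbit ↥KHs rHs1).ncard :=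
  tree_card (fun g => mem_KHs) words_ok.1 rHs1 (by rw [rootHs1.2.2.2.2.2]; rfl) (by rw [rootHs1.2.2.2.2.2]; exact rootHs1.2.2.2.2.1) edgesHs1 sortedHs1
    (S16_finite.subset fun y hy => (subHs1 hy).1)

theorem rootHs2 : inLatB (vecN 769129911327232607634139886670858706) = true ∧ sqNorm (vecN 769129911327232607634139886670858706) = 32 ∧ dotInt uStd (vecN 769129911327232607634139886670858706) = 16 ∧
    dotInt tStd (vecN 769129911327232607634139886670858706) = 0 ∧ 769129911327232607634139886670858706 < 2 ^ 120 ∧ get64 ptsHs2 0 = 769129911327232607634139886670858706 := by decide +kernel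

/-- The root of a tree. -/
def rHs2 : ↥leechLattice := ⟨vecN 769129911327232607634139886670858706, inLatB_sound rootHs2.1⟩

theorem subHs2 : MulAction.orbit ↥KHs rHs2 ⊆
    {y | y ∈ S16 ∧ dotInt tStd (y : GolayPt → ℤ) = 0} := fun y hy => by
  have h := orbit_dot (K := KHs) (p := uL) (fun g hg => hg.1) hy
  exact ⟨⟨h.1.trans rootHs2.2.1, h.2.trans rootHs2.2.2.1⟩, (orbit_dot (K := KHs) (p := tL) (fun g hg => hg.2) hy).2.trans rootHs2.2.2.2.1⟩

theorem cardHs2 : 4125 ≤ (MulAction.orbit ↥KHs rHs2).ncard :=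
  tree_card (fun g => mem_KHs) words_ok.1 rHs2 (by rw [rootHs2.2.2.2.2.2]; rfl) (by rw [rootHs2.2.2.2.2.2]; exact rootHs2.2.2.2.2.1) edgesHs2 sortedHs2
    (S16_finite.subset fun y hy => (subHs2 hy).1)

theorem rootHs3 : inLatB (vecN 686136824131781604836580032309119506) = true ∧ sqNorm (vecN 686136824131781604836580032309119506) = 32 ∧ dotInt uStd (vecN 686136824131781604836580032309119506) = 16 ∧
    dotInt tStd (vecN 686136824131781604836580032309119506) = -8 ∧ 686136824131781604836580032309119506 < 2 ^ 120 ∧ get64 ptsHs3 0 = 686136824131781604836580032309119506 := by decide +kernel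

/-- The root of a tree. -/
def rHs3 : ↥leechLattice := ⟨vecN 686136824131781604836580032309119506, inLatB_sound rootHs3.1⟩

theorem subHs3 : MulAction.orbit ↥KHs rHs3 ⊆
    {y | y ∈ S16 ∧ dotInt tStd (y : GolayPt → ℤ) = -8} := fun y hy => by
  have h := orbit_dot (K := KHs) (p := uL) (fun g hg => hg.1) hy
  exact ⟨⟨h.1.trans rootHs3.2.1, h.2.trans rootHs3.2.2.1⟩, (orbit_dot (K := KHs) (p := tL) (fun g hg => hg.2) hy).2.trans rootHs3.2.2.2.1⟩

theorem cardHs3 : 352 ≤ (MulAction.orbit ↥KHs rHs3).ncard :=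
  tree_card (fun g => mem_KHs) words_ok.1 rHs3 (by rw [rootHs3.2.2.2.2.2]; rfl) (by rw [rootHs3.2.2.2.2.2]; exact rootHs3.2.2.2.2.1) edgesHs3 sortedHs3
    (S16_finite.subset fun y hy => (subHs3 hy).1)

theorem rootMcl0 : inLatB (vecN 852206658587909773353650494292640268) = true ∧ sqNorm (vecN 852206658587909773353650494292640268) = 32 ∧ dotInt uStd (vecN 852206658587909773353650494292640268) = 16 ∧
    dotInt aStd (vecN 852206658587909773353650494292640268) = 0 ∧ 852206658587909773353650494292640268 < 2 ^ 120 ∧ get64 ptsMcl0 0 = 852206658587909773353650494292640268 := by decide +kernel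

/-- The root of a tree. -/
def rMcl0 : ↥leechLattice := ⟨vecN 852206658587909773353650494292640268, inLatB_sound rootMcl0.1⟩

theorem subMcl0 : MulAction.orbit ↥KMcl rMcl0 ⊆
    {y | y ∈ S16 ∧ dotInt aStd (y : GolayPt → ℤ) = 0} := fun y hy => by
  have h := orbit_dot (K := KMcl) (p := uL) (fun g hg => hg.1) hy
  exact ⟨⟨h.1.trans rootMcl0.2.1, h.2.trans rootMcl0.2.2.1⟩, (orbit_dot (K := KMcl) (p := aL) (fun g hg => hg.2) hy).2.trans rootMcl0.2.2.2.1⟩

theorem cardMcl0 : 2025 ≤ (MulAction.orbit ↥KMcl rMcl0).ncard :=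
  tree_card (fun g => mem_KMcl) words_ok.2.1 rMcl0 (by rw [rootMcl0.2.2.2.2.2]; rfl) (by rw [rootMcl0.2.2.2.2.2]; exact rootMcl0.2.2.2.2.1) edgesMcl0 sortedMcl0
    (S16_finite.subset fun y hy => (subMcl0 hy).1)

theorem rootMcl1 : inLatB (vecN 769211040965649580038703404584221200) = true ∧ sqNorm (vecN 769211040965649580038703404584221200) = 32 ∧ dotInt uStd (vecN 769211040965649580038703404584221200) = 16 ∧
    dotInt aStd (vecN 769211040965649580038703404584221200) = 8 ∧ 769211040965649580038703404584221200 < 2 ^ 120 ∧ get64 ptsMcl1 0 = 769211040965649580038703404584221200 := by decide +kernel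

/-- The root of a tree. -/
def rMcl1 : ↥leechLattice := ⟨vecN 769211040965649580038703404584221200, inLatB_sound rootMcl1.1⟩

theorem subMcl1 : MulAction.orbit ↥KMcl rMcl1 ⊆
    {y | y ∈ S16 ∧ dotInt aStd (y : GolayPt → ℤ) = 8} := fun y hy => by
  have h := orbit_dot (K := KMcl) (p := uL) (fun g hg => hg.1) hy
  exact ⟨⟨h.1.trans rootMcl1.2.1, h.2.trans rootMcl1.2.2.1⟩, (orbit_dot (K := KMcl) (p := aL) (fun g hg => hg.2) hy).2.trans rootMcl1.2.2.2.1⟩

theorem cardMcl1 : 7128 ≤ (MulAction.orbit ↥KMcl rMcl1).ncard :=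
  tree_card (fun g => mem_KMcl) words_ok.2.1 rMcl1 (by rw [rootMcl1.2.2.2.2.2]; rfl) (by rw [rootMcl1.2.2.2.2.2]; exact rootMcl1.2.2.2.2.1) edgesMcl1 sortedMcl1
    (S16_finite.subset fun y hy => (subMcl1 hy).1)

theorem rootMcl2 : inLatB (vecN 852206658587909773353650494292509200) = true ∧ sqNorm (vecN 852206658587909773353650494292509200) = 32 ∧ dotInt uStd (vecN 852206658587909773353650494292509200) = 16 ∧
    dotInt aStd (vecN 852206658587909773353650494292509200) = 16 ∧ 852206658587909773353650494292509200 < 2 ^ 120 ∧ get64 ptsMcl2 0 = 852206658587909773353650494292509200 := by decide +kernel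

/-- The root of a tree. -/
def rMcl2 : ↥leechLattice := ⟨vecN 852206658587909773353650494292509200, inLatB_sound rootMcl2.1⟩

theorem subMcl2 : MulAction.orbit ↥KMcl rMcl2 ⊆
    {y | y ∈ S16 ∧ dotInt aStd (y : GolayPt → ℤ) = 16} := fun y hy => by
  have h := orbit_dot (K := KMcl) (p := uL) (fun g hg => hg.1) hy
  exact ⟨⟨h.1.trans rootMcl2.2.1, h.2.trans rootMcl2.2.2.1⟩, (orbit_dot (K := KMcl) (p := aL) (fun g hg => hg.2) hy).2.trans rootMcl2.2.2.2.1⟩

theorem cardMcl2 : 2025 ≤ (MulAction.orbit ↥KMcl rMcl2).ncard :=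
  tree_card (fun g => mem_KMcl) words_ok.2.1 rMcl2 (by rw [rootMcl2.2.2.2.2.2]; rfl) (by rw [rootMcl2.2.2.2.2.2]; exact rootMcl2.2.2.2.2.1) edgesMcl2 sortedMcl2
    (S16_finite.subset fun y hy => (subMcl2 hy).1)

theorem rootMclM220 : inLatB (vecN 769129908928723781446726181886378574) = true ∧ sqNorm (vecN 769129908928723781446726181886378574) = 32 ∧ dotInt uStd (vecN 769129908928723781446726181886378574) = 16 ∧
    dotInt tStd (vecN 769129908928723781446726181886378574) = 16 ∧ dotInt aStd (vecN 769129908928723781446726181886378574) = 0 ∧ 769129908928723781446726181886378574 < 2 ^ 120 ∧ get64 ptsMclM220 0 = 769129908928723781446726181886378574 := by decide +kernel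

/-- The root of a tree. -/
def rMclM220 : ↥leechLattice := ⟨vecN 769129908928723781446726181886378574, inLatB_sound rootMclM220.1⟩

theorem subMclM220 : MulAction.orbit ↥KM22 rMclM220 ⊆
    {y | y ∈ {y | y ∈ S16 ∧ dotInt aStd (y : GolayPt → ℤ) = 0} ∧ dotInt tStd (y : GolayPt → ℤ) = 16} := fun y hy => by
  have h := orbit_dot (K := KM22) (p := uL) (fun g hg => hg.1.1) hy
  exact ⟨⟨⟨h.1.trans rootMclM220.2.1, h.2.trans rootMclM220.2.2.1⟩, (orbit_dot (K := KM22) (p := aL) (fun g hg => hg.1.2) hy).2.trans rootMclM220.2.2.2.2.1⟩, (orbit_dot (K := KM22) (p := tL) (fun g hg => hg.2) hy).2.trans rootMclM220.2.2.2.1⟩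

theorem cardMclM220 : 462 ≤ (MulAction.orbit ↥KM22 rMclM220).ncard :=
  tree_card (fun g => mem_KM22) words_ok.2.2 rMclM220 (by rw [rootMclM220.2.2.2.2.2.2]; rfl) (by rw [rootMclM220.2.2.2.2.2.2]; exact rootMclM220.2.2.2.2.2.1) edgesMclM220 sortedMclM220
    (S16_finite.subset fun y hy => (subMclM220 hy).1.1)

theorem rootMclM221 : inLatB (vecN 728928946258269536053638942026089967) = true ∧ sqNorm (vecN 728928946258269536053638942026089967) = 32 ∧ dotInt uStd (vecN 728928946258269536053638942026089967) = 16 ∧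
    dotInt tStd (vecN 728928946258269536053638942026089967) = 8 ∧ dotInt aStd (vecN 728928946258269536053638942026089967) = 0 ∧ 728928946258269536053638942026089967 < 2 ^ 120 ∧ get64 ptsMclM221 0 = 728928946258269536053638942026089967 := by decide +kernel

/-- The root of a tree. -/
def rMclM221 : ↥leechLattice := ⟨vecN 728928946258269536053638942026089967, inLatB_sound rootMclM221.1⟩

theorem subMclM221 : MulAction.orbit ↥KM22 rMclM221 ⊆
    {y | y ∈ {y | y ∈ S16 ∧ dotInt aStd (y : GolayPt → ℤ) = 0} ∧ dotInt tStd (y : GolayPt → ℤ) = 8} := fun y hy => by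
  have h := orbit_dot (K := KM22) (p := uL) (fun g hg => hg.1.1) hy
  exact ⟨⟨⟨h.1.trans rootMclM221.2.1, h.2.trans rootMclM221.2.2.1⟩, (orbit_dot (K := KM22) (p := aL) (fun g hg => hg.1.2) hy).2.trans rootMclM221.2.2.2.2.1⟩, (orbit_dot (K := KM22) (p := tL) (fun g hg => hg.2) hy).2.trans rootMclM221.2.2.2.1⟩

theorem cardMclM221 : 1232 ≤ (MulAction.orbit ↥KM22 rMclM221).ncard :=
  tree_card (fun g => mem_KM22) words_ok.2.2 rMclM221 (by rw [rootMclM221.2.2.2.2.2.2]; rfl) (by rw [rootMclM221.2.2.2.2.2.2]; exact rootMclM221.2.2.2.2.2.1) edgesMclM221 sortedMclM221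
    (S16_finite.subset fun y hy => (subMclM221 hy).1.1)

theorem rootMclM222 : inLatB (vecN 688651924549381310212637279738479184) = true ∧ sqNorm (vecN 688651924549381310212637279738479184) = 32 ∧ dotInt uStd (vecN 688651924549381310212637279738479184) = 16 ∧
    dotInt tStd (vecN 688651924549381310212637279738479184) = 0 ∧ dotInt aStd (vecN 688651924549381310212637279738479184) = 0 ∧ 688651924549381310212637279738479184 < 2 ^ 120 ∧ get64 ptsMclM222 0 = 688651924549381310212637279738479184 := by decide +kernel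

/-- The root of a tree. -/
def rMclM222 : ↥leechLattice := ⟨vecN 688651924549381310212637279738479184, inLatB_sound rootMclM222.1⟩

theorem subMclM222 : MulAction.orbit ↥KM22 rMclM222 ⊆
    {y | y ∈ {y | y ∈ S16 ∧ dotInt aStd (y : GolayPt → ℤ) = 0} ∧ dotInt tStd (y : GolayPt → ℤ) = 0} := fun y hy => by
  have h := orbit_dot (K := KM22) (p := uL) (fun g hg => hg.1.1) hy
  exact ⟨⟨⟨h.1.trans rootMclM222.2.1, h.2.trans rootMclM222.2.2.1⟩, (orbit_dot (K := KM22) (p := aL) (fun g hg => hg.1.2) hy).2.trans rootMclM222.2.2.2.2.1⟩, (orbit_dot (K := KM22) (p := tL) (fun g hg => hg.2) hy).2.trans rootMclM222.2.2.2.1⟩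

theorem cardMclM222 : 330 ≤ (MulAction.orbit ↥KM22 rMclM222).ncard :=
  tree_card (fun g => mem_KM22) words_ok.2.2 rMclM222 (by rw [rootMclM222.2.2.2.2.2.2]; rfl) (by rw [rootMclM222.2.2.2.2.2.2]; exact rootMclM222.2.2.2.2.2.1) edgesMclM222 sortedMclM222
    (S16_finite.subset fun y hy => (subMclM222 hy).1.1)

theorem levelsHs (i : Fin 5) :
    {y | y ∈ S16 ∧ dotInt tStd (y : GolayPt → ℤ) = ![32, 16, 8, 0, -8] i} =
      ![({tL} : Set ↥leechLattice), MulAction.orbit ↥KHs rHs0, MulAction.orbit ↥KHs rHs1, MulAction.orbit ↥KHs rHs2, MulAction.orbit ↥KHs rHs3] i := by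
  refine orbits_fill S16_finite Finset.univ (f := fun y : ↥leechLattice => dotInt tStd (y : GolayPt → ℤ))
    (fun a _ b _ h => ?_) (fun j _ => ?_) ?_ i (Finset.mem_univ _)
  · fin_cases a <;> fin_cases b <;> simp at h <;> rfl
  · fin_cases j
    · exact Set.singleton_subset_iff.mpr ⟨⟨std_facts.2.2.2.2.2.1, std_facts.2.2.2.2.2.2.2⟩, tt_dot.1⟩
    · exact subHs0
    · exact subHs1
    · exact subHs2
    · exact subHs3
  · rw [S16_ncard, Fin.sum_univ_five]
    have h0 := cardHs0
    have h1 := cardHs1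
    have h2 := cardHs2
    have h3 := cardHs3
    have hT : ({tL} : Set ↥leechLattice).ncard = 1 := Set.ncard_singleton _
    simp only [Matrix.cons_val]
    omega

theorem levelsMcl (i : Fin 3) :
    {y | y ∈ S16 ∧ dotInt aStd (y : GolayPt → ℤ) = ![0, 8, 16] i} =
      ![MulAction.orbit ↥KMcl rMcl0, MulAction.orbit ↥KMcl rMcl1, MulAction.orbit ↥KMcl rMcl2] i := by
  refine orbits_fill S16_finite Finset.univ (f := fun y : ↥leechLattice => dotInt aStd (y : GolayPt → ℤ))
    (fun a _ b _ h => ?_) (fun j _ => ?_) ?_ i (Finset.mem_univ _)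
  · fin_cases a <;> fin_cases b <;> simp at h <;> rfl
  · fin_cases j
    · exact subMcl0
    · exact subMcl1
    · exact subMcl2
  · rw [S16_ncard, Fin.sum_univ_three]
    have h0 := cardMcl0
    have h1 := cardMcl1
    have h2 := cardMcl2
    simp only [Matrix.cons_val]
    omega

theorem S16a_ncard : {y | y ∈ S16 ∧ dotInt aStd (y : GolayPt → ℤ) = 0}.ncard = 2025 := by
  have h0 := levelsMcl 0
  have h1 := levelsMcl 1
  have h2 := levelsMcl 2
  simp only [Matrix.cons_val] at h0 h1 h2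
  have e : S16 = MulAction.orbit ↥KMcl rMcl0 ∪ MulAction.orbit ↥KMcl rMcl1 ∪ MulAction.orbit ↥KMcl rMcl2 := by
    refine (Set.eq_of_subset_of_ncard_le ?_ ?_ S16_finite).symm
    · rw [← h0, ← h1, ← h2]
      rintro y ((hy | hy) | hy) <;> exact hy.1
    · have d01 : Disjoint (MulAction.orbit ↥KMcl rMcl0) (MulAction.orbit ↥KMcl rMcl1) :=
        Set.disjoint_left.mpr fun y a b => by have := (subMcl0 a).2; have := (subMcl1 b).2; omega
      have d2 : Disjoint (MulAction.orbit ↥KMcl rMcl0 ∪ MulAction.orbit ↥KMcl rMcl1) (MulAction.orbit ↥KMcl rMcl2) :=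
        Set.disjoint_left.mpr fun y a b => by
          rcases a with a | a
          · have := (subMcl0 a).2; have := (subMcl2 b).2; omega
          · have := (subMcl1 a).2; have := (subMcl2 b).2; omega
      have f0 := S16_finite.subset fun y hy => (subMcl0 hy).1
      have f1 := S16_finite.subset fun y hy => (subMcl1 hy).1
      have f2 := S16_finite.subset fun y hy => (subMcl2 hy).1
      rw [Set.ncard_union_eq d2 (f0.union f1) f2, Set.ncard_union_eq d01 f0 f1, S16_ncard]
      have := cardMcl0; have := cardMcl1; have := cardMcl2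
      omega
  have c0 := cardMcl0; have c1 := cardMcl1; have c2 := cardMcl2
  have f0 := S16_finite.subset fun y hy => (subMcl0 hy).1
  have f1 := S16_finite.subset fun y hy => (subMcl1 hy).1
  have f2 := S16_finite.subset fun y hy => (subMcl2 hy).1
  have d01 : Disjoint (MulAction.orbit ↥KMcl rMcl0) (MulAction.orbit ↥KMcl rMcl1) :=
    Set.disjoint_left.mpr fun y a b => by have := (subMcl0 a).2; have := (subMcl1 b).2; omega
  have d2 : Disjoint (MulAction.orbit ↥KMcl rMcl0 ∪ MulAction.orbit ↥KMcl rMcl1) (MulAction.orbit ↥KMcl rMcl2) :=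
    Set.disjoint_left.mpr fun y a b => by
      rcases a with a | a
      · have := (subMcl0 a).2; have := (subMcl2 b).2; omega
      · have := (subMcl1 a).2; have := (subMcl2 b).2; omega
  have ht := congrArg Set.ncard e
  rw [Set.ncard_union_eq d2 (f0.union f1) f2, Set.ncard_union_eq d01 f0 f1, S16_ncard] at ht
  rw [h0]
  omega

theorem levelsMclM22 (i : Fin 4) :
    {y | y ∈ {y | y ∈ S16 ∧ dotInt aStd (y : GolayPt → ℤ) = 0} ∧ dotInt tStd (y : GolayPt → ℤ) = ![32, 16, 8, 0] i} =
      ![({tL} : Set ↥leechLattice), MulAction.orbit ↥KM22 rMclM220, MulAction.orbit ↥KM22 rMclM221, MulAction.orbit ↥KM22 rMclM222] i := by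
  refine orbits_fill (S16_finite.subset fun y hy => hy.1) Finset.univ (f := fun y : ↥leechLattice => dotInt tStd (y : GolayPt → ℤ))
    (fun a _ b _ h => ?_) (fun j _ => ?_) ?_ i (Finset.mem_univ _)
  · fin_cases a <;> fin_cases b <;> simp at h <;> rfl
  · fin_cases j
    · exact Set.singleton_subset_iff.mpr ⟨⟨⟨std_facts.2.2.2.2.2.1, std_facts.2.2.2.2.2.2.2⟩, tt_dot.2⟩, tt_dot.1⟩
    · exact subMclM220
    · exact subMclM221
    · exact subMclM222
  · rw [S16a_ncard, Fin.sum_univ_four]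
    have h0 := cardMclM220
    have h1 := cardMclM221
    have h2 := cardMclM222
    have hT : ({tL} : Set ↥leechLattice).ncard = 1 := Set.ncard_singleton _
    simp only [Matrix.cons_val]
    omega

end CfsgLeechOrb
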