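/-
Checks of one spanning tree.
-/
import Cfsg.Agent.Lib.LeechOrbit.MclM22Data

set_option autoImplicit false
set_option maxRecDepth 30000

namespace CfsgLeechOrb

open CfsgLeech

theorem sortedMclM221 : sortedOK ptsMclM221 srtMclM221 1232 = true := by decide +kernel

theorem edgesMclM221_0 : edgesPart wMclM22 ptsMclM221 parMclM221 1 701 = true := by decide +kernel

theorem edgesMclM221_1 : edgesPart wMclM22 ptsMclM221 parMclM221 701 1232 = true := by decide +kernel

theorem edgesMclM221 (i : ℕ) (h0 : 0 < i) (h1 : i < 1232) : edgeOK wMclM22 ptsMclM221 parMclM221 i = true := by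
  by_cases c0 : i < 701
  · exact of_part edgesMclM221_0 (by omega) c0
  exact of_part edgesMclM221_1 (by omega) h1

end CfsgLeechOrb
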