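/-
Carrying the levels of the standard configurations to arbitrary ones.
-/
import Cfsg.Agent.Lib.LeechOrbit.Levels
import Cfsg.Agent.Lib.Leech.Sporadic

set_option autoImplicit false

namespace CfsgLeechOrb

open Cfsg CfsgGolay CfsgLeech
open scoped Pointwise

theorem cards_hs : (MulAction.orbit ↥KHs rHs0).ncard = 1100 ∧ (MulAction.orbit ↥KHs rHs1).ncard = 5600 ∧
    (MulAction.orbit ↥KHs rHs2).ncard = 4125 ∧ (MulAction.orbit ↥KHs rHs3).ncard = 352 := by
  have c0 := cardHs0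
  have c1 := cardHs1
  have c2 := cardHs2
  have c3 := cardHs3
  have hle : ∑ i : Fin 5, {y | y ∈ S16 ∧ dotInt tStd (y : GolayPt → ℤ) = ![32, 16, 8, 0, -8] i}.ncard ≤ 11178 := by
    rw [← S16_ncard, ← finsum_eq_sum_of_fintype, ← Set.ncard_iUnion_of_finite
      (fun i => S16_finite.subset fun y hy => hy.1)
      (fun i j hij => Set.disjoint_left.mpr fun y h1 h2 => by
        have := h1.2.symm.trans h2.2
        fin_cases i <;> fin_cases j <;> simp at this hij)]
    exact Set.ncard_le_ncard (Set.iUnion_subset fun i y hy => hy.1) S16_finite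
  simp only [levelsHs, Fin.sum_univ_five, Matrix.cons_val, Set.ncard_singleton] at hle
  omega

theorem dots_hs {y : ↥leechLattice} (hy : y ∈ S16) :
    ∃ i : Fin 5, dotInt tStd (y : GolayPt → ℤ) = ![32, 16, 8, 0, -8] i := by
  obtain ⟨c0, c1, c2, c3⟩ := cards_hs
  have hfin : ∀ i : Fin 5, {y | y ∈ S16 ∧ dotInt tStd (y : GolayPt → ℤ) = ![32, 16, 8, 0, -8] i}.Finite :=
    fun i => S16_finite.subset fun y hy => hy.1
  have hU : (⋃ i : Fin 5, {y | y ∈ S16 ∧ dotInt tStd (y : GolayPt → ℤ) = ![32, 16, 8, 0, -8] i}) = S16 := by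
    refine Set.eq_of_subset_of_ncard_le (Set.iUnion_subset fun i y hy => hy.1) ?_ S16_finite
    rw [Set.ncard_iUnion_of_finite hfin fun i j hij => Set.disjoint_left.mpr fun y h1 h2 => by
      have := h1.2.symm.trans h2.2
      fin_cases i <;> fin_cases j <;> simp at this hij, finsum_eq_sum_of_fintype, S16_ncard]
    simp only [levelsHs, Fin.sum_univ_five, Matrix.cons_val, Set.ncard_singleton]
    omega
  rw [← hU] at hy
  obtain ⟨i, hi⟩ := Set.mem_iUnion.mp hy
  exact ⟨i, hi.2⟩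

theorem cards_mcl : (MulAction.orbit ↥KMcl rMcl0).ncard = 2025 := by
  have h := levelsMcl 0
  simp only [Matrix.cons_val] at h
  rw [← h]
  exact S16a_ncard

theorem cards_m22 : (MulAction.orbit ↥KM22 rMclM220).ncard = 462 ∧ (MulAction.orbit ↥KM22 rMclM221).ncard = 1232 ∧
    (MulAction.orbit ↥KM22 rMclM222).ncard = 330 := by
  have c0 := cardMclM220
  have c1 := cardMclM221
  have c2 := cardMclM222
  have hfin : {y | y ∈ S16 ∧ dotInt aStd (y : GolayPt → ℤ) = 0}.Finite := S16_finite.subset fun y hy => hy.1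
  have hle : ∑ i : Fin 4, {y | y ∈ {y | y ∈ S16 ∧ dotInt aStd (y : GolayPt → ℤ) = 0} ∧
      dotInt tStd (y : GolayPt → ℤ) = ![32, 16, 8, 0] i}.ncard ≤ 2025 := by
    rw [← S16a_ncard, ← finsum_eq_sum_of_fintype, ← Set.ncard_iUnion_of_finite
      (fun i => hfin.subset fun y hy => hy.1)
      (fun i j hij => Set.disjoint_left.mpr fun y h1 h2 => by
        have := h1.2.symm.trans h2.2
        fin_cases i <;> fin_cases j <;> simp at this hij)]
    exact Set.ncard_le_ncard (Set.iUnion_subset fun i y hy => hy.1) hfin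
  simp only [levelsMclM22, Fin.sum_univ_four, Matrix.cons_val, Set.ncard_singleton] at hle
  omega

theorem conj_mem_stab {k : ↥Co0} {p q : ↥leechLattice} (h : k • p = q) (g : ↥Co0) :
    g ∈ MulAction.stabilizer ↥Co0 p ↔ k * g * k⁻¹ ∈ MulAction.stabilizer ↥Co0 q := by
  rw [MulAction.mem_stabilizer_iff, MulAction.mem_stabilizer_iff, ← h, mul_smul, mul_smul, inv_smul_smul,
    smul_left_cancel_iff]

theorem orbit_conj {K K' : Subgroup ↥Co0} {k : ↥Co0} (hK : ∀ g, g ∈ K' ↔ k * g * k⁻¹ ∈ K) (y z : ↥leechLattice) :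
    z ∈ MulAction.orbit ↥K' y ↔ k • z ∈ MulAction.orbit ↥K (k • y) := by
  constructor
  · rintro ⟨⟨g, hg⟩, rfl⟩
    refine ⟨⟨_, (hK g).mp hg⟩, ?_⟩
    show (k * g * k⁻¹) • k • y = k • g • y
    rw [← mul_smul, inv_mul_cancel_right, mul_smul]
  · rintro ⟨⟨g, hg⟩, hz⟩
    refine ⟨⟨k⁻¹ * g * k, (hK _).mpr (by rwa [show k * (k⁻¹ * g * k) * k⁻¹ = g by group])⟩, ?_⟩
    show (k⁻¹ * g * k) • y = z
    rw [mul_smul, mul_smul, show g • k • y = k • z from hz, inv_smul_smul]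

theorem ncard_smul_preimage (k : ↥Co0) (S : Set ↥leechLattice) : {z | k • z ∈ S}.ncard = S.ncard := by
  rw [show {z | k • z ∈ S} = (fun y => k⁻¹ • y) '' S from Set.ext fun z =>
    ⟨fun h => ⟨k • z, h, inv_smul_smul k z⟩, fun ⟨y, hy, hz⟩ => hz ▸ by
      show k • k⁻¹ • y ∈ S
      rwa [smul_inv_smul]⟩, Set.ncard_image_of_injective _ (MulAction.injective k⁻¹)]

theorem orbit_conj_ncard {K K' : Subgroup ↥Co0} {k : ↥Co0} (hK : ∀ g, g ∈ K' ↔ k * g * k⁻¹ ∈ K) (r : ↥leechLattice) :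
    (MulAction.orbit ↥K' (k⁻¹ • r)).ncard = (MulAction.orbit ↥K r).ncard := by
  rw [← ncard_smul_preimage k (MulAction.orbit ↥K r)]
  congr 1
  ext z
  rw [orbit_conj hK, smul_inv_smul]
  rfl

theorem hs_frame_neg {u x : ↥leechLattice} (hu : sqNorm (u : GolayPt → ℤ) = 48) (hx : sqNorm (x : GolayPt → ℤ) = 32)
    (h : dotInt (u : GolayPt → ℤ) (x : GolayPt → ℤ) = -16) : ∃ k : ↥Co0, k • u = -uL ∧ k • x = tL := by
  have h' : dotInt (u : GolayPt → ℤ) ((-x : ↥leechLattice) : GolayPt → ℤ) = 16 := by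
    rw [AddSubgroup.coe_neg, dot_comm, dot_neg_left, dot_comm, h]; norm_num
  obtain ⟨g, g1, g2⟩ := config_pairs (u' := uL) (x' := tL) (Or.inr rfl) hu (x := -x) (by simpa [sqNorm] using hx) h'
    std_facts.2.2.2.1 std_facts.2.2.2.2.2.1 std_facts.2.2.2.2.2.2.2
  refine ⟨negAut * g, ?_, ?_⟩
  · rw [mul_smul, g1]
    exact Subtype.ext (negAut_apply uL)
  · rw [mul_smul]
    rw [aut_neg] at g2
    rw [show g • x = -tL by rw [← g2, neg_neg]]
    exact Subtype.ext (by rw [negAut_apply, AddSubgroup.coe_neg, neg_neg])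

theorem mcl_frame {v w : ↥leechLattice} (hv : sqNorm (v : GolayPt → ℤ) = 32) (hw : sqNorm (w : GolayPt → ℤ) = 32)
    (hvw : dotInt (v : GolayPt → ℤ) (w : GolayPt → ℤ) = -8) :
    ∃ k : ↥Co0, k • v = aL ∧ k • (v + w) = uL := by
  have hs : sqNorm ((v + w : ↥leechLattice) : GolayPt → ℤ) = 48 := by
    rw [AddSubgroup.coe_add, (sqNorm_sub_add _ _).2, hv, hw, hvw]; norm_num
  have hd : dotInt ((v + w : ↥leechLattice) : GolayPt → ℤ) (v : GolayPt → ℤ) = 24 := by
    rw [AddSubgroup.coe_add, dot_add_left, dot_self, dot_comm (w : GolayPt → ℤ), hv, hvw]; norm_num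
  obtain ⟨g, g1, g2⟩ := config_pairs (u' := uL) (x' := aL) (Or.inl rfl) hs hv hd
    std_facts.2.2.2.1 std_facts.2.2.2.2.1 std_facts.2.2.2.2.2.2.1
  exact ⟨g, g2, g1⟩

end CfsgLeechOrb
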