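/-
The stabiliser of a point of the 352 in the Higman–Sims group is PSU₃(5).
-/
import Cfsg.Agent.Lib.U35.Main
import Cfsg.Agent.Lib.LeechOrbit.U35Data
import Cfsg.Agent.Lib.LeechOrbit.Transfer
import Cfsg.Agent.Lib.Leech.HiSModel

set_option autoImplicit false
set_option maxRecDepth 100000

namespace CfsgLeechOrb

open Cfsg CfsgGolay CfsgLeech CfsgLeech.Models CfsgPC
open scoped Pointwise

/-- The codes of the permutations of fifty points. -/
def u35Gens : List ℕ := u35Codes.map Prod.fst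

/-- The recorded paths, computed. -/
def u35Paths (a : ℕ) : List (List ℕ × List ℕ) :=
  (List.range 50).map fun i =>
    let w := u35Words.getD a []
    let p := u35Pts.getD i (0, 0)
    (runN w p.1, runN w p.2)

theorem u35_act : ∀ k : Fin 3, ∀ j < 50, ap (u35Gens.getD k 0) j = (CfsgLib.U35.act k).getD j 0 := by decide +kernel

theorem u35_perm : ∀ a < 3, isPerm 50 (u35Codes.getD a (0, 0)).1 (u35Codes.getD a (0, 0)).2 = true := by decide +kernel

theorem u35_fix : ∀ a < 3, fixOK (u35Words.getD a []) u35Vs (u35Vs.map fun v => runN (u35Words.getD a []) v) = true := by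
  decide +kernel

theorem u35_move : ∀ a < 3, ((List.range 50).all fun i =>
    moveOK u35Pts (u35Words.getD a []) (u35Codes.getD a (0, 0)).1 (u35Paths a) i) = true := by decide +kernel

theorem u35_pts : ptsPart u35Pts 0 50 = true := by decide +kernel

theorem u35_len : u35Pts.length = 50 ∧ u35Words.length = 3 ∧ u35Codes.length = 3 ∧ u35Vs.length = 3 := by decide +kernel

theorem u35_vs : (u35Vs.all fun v => inLatB (vecN v)) = true ∧ (∀ i, vecN (u35Vs.getD 0 0) i = uStd i) ∧
    (∀ i, vecN (u35Vs.getD 1 0) i = tStd i) ∧ u35Vs.getD 2 0 = get64 ptsHs3 0 := by decide +kernel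

attribute [local irreducible] codeL octadL dodecadL slpCodes vecN u35Pts u35Words u35Codes u35Vs runN

theorem u35_valid : Valid 50 u35Gens := fun c hc => by
  obtain ⟨p, hp, rfl⟩ := List.mem_map.mp hc
  obtain ⟨a, ha, rfl⟩ := List.getElem_of_mem hp
  have := u35_perm a (by rw [u35_len.2.2.1] at ha; exact ha)
  rw [List.getD_eq_getElem _ _ ha] at this
  exact ⟨_, decP_rep this⟩

section PSU

variable {F : Type} [Field F] [Fintype F]

open Matrix CfsgLib.U35 CfsgLib.PSUBorel in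
theorem psu_model (hF : Fintype.card F = 25) :
    Nat.card (Cfsg.PSU 3 F 5) = 126000 ∧ Nonempty (Cfsg.PSU 3 F 5 ≃* genG 50 u35Gens) := by
  classical
  haveI : Fact (Nat.Prime 5) := ⟨Nat.prime_five⟩
  haveI : CharP F 5 := charP_of_card_eq_prime_pow (f := 2) (by rw [hF]; norm_num)
  obtain ⟨r, hr⟩ : ∃ r : F, r ^ 2 = 2 := by
    have h2 : (2 : F) ≠ 0 := fun h => by
      have := (CharP.cast_eq_zero_iff F 5 2).mp (by exact_mod_cast h)
      norm_num at this
    have hsq : IsSquare (2 : F) := by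
      rw [FiniteField.isSquare_iff (by rw [ringChar.eq F 5]; norm_num) h2, hF]
      norm_num
      linear_combination 819 * five_zero (F := F)
    obtain ⟨r, hr⟩ := hsq
    exact ⟨r, by rw [sq, ← hr]⟩
  let c : Conj F := ⟨5, frobenius F 5, by rw [hF]; norm_num, fun x => frobenius_def 5 x⟩
  have hσ : ∀ x : F, c.σ x = x ^ 5 := fun x => frobenius_def 5 x
  have hc5 : Fintype.card F = 5 ^ 2 := by rw [hF]; norm_num
  obtain ⟨E⟩ := exists_iso c (n := 3)
  let φ : SUs c 3 →* Cfsg.PSU 3 F 5 :=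
    (QuotientGroup.mk' (Subgroup.center (Cfsg.SU 3 F 5))).comp E.toMonoidHom
  have hcc : Nat.card (Subgroup.center (Cfsg.SU 3 F 5)) = 3 := by
    rw [Cfsg.Agent.S0280.center_card hc5 3 (by norm_num)]; norm_num
  have hke : ∀ z, z ∈ φ.ker ↔ E z ∈ Subgroup.center (Cfsg.SU 3 F 5) := fun z => QuotientGroup.eq_one_iff (E z)
  have hcen : Subgroup.center (SUs c 3) ≤ φ.ker := fun z hz => (hke z).mpr (Subgroup.mem_center_iff.mpr fun x => by
    obtain ⟨y, rfl⟩ := E.surjective x
    exact (map_mul E y z).symm.trans ((congrArg E (Subgroup.mem_center_iff.mp hz y)).trans (map_mul E z y)))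
  let hc : Cover c 5 φ :=
    { surj := (QuotientGroup.mk'_surjective _).comp E.surjective
      central := fun z hz => Subgroup.mem_center_iff.mpr fun x => E.injective (by
        rw [map_mul, map_mul]; exact Subgroup.mem_center_iff.mp ((hke z).mp hz) (E x))
      m := 3
      cop := by norm_num
      pow_m := fun z hz => E.injective (by
        rw [map_pow, map_one]
        have e := congrArg Subtype.val
          (pow_card_eq_one' (x := (⟨E z, (hke z).mp hz⟩ : Subgroup.center (Cfsg.SU 3 F 5))))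
        rw [hcc] at e
        exact e) }
  have hker : Nat.card φ.ker = 3 := by
    refine Eq.trans ?_ hcc
    refine Nat.card_eq_of_bijective
      (fun z => (⟨E z.1, (hke z.1).mp z.2⟩ : Subgroup.center (Cfsg.SU 3 F 5)))
      ⟨fun a b e => Subtype.ext (E.injective (congrArg Subtype.val e)), fun w => ?_⟩
    exact ⟨⟨E.symm w.1, (hke _).mpr ((E.apply_symm_apply w.1).symm ▸ w.2)⟩, Subtype.ext (E.apply_symm_apply w.1)⟩
  haveI : IsSimpleGroup (Cfsg.PSU 3 F 5) := Cfsg.Agent.S0283.result hc5 3 le_rfl (by norm_num)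
  have hG : Nat.card (Cfsg.PSU 3 F 5) = 126000 := by
    have h := Cfsg.Agent.S0280.result hc5 3 (by norm_num)
    rw [Finset.prod_range_succ, Finset.prod_range_succ, Finset.prod_range_succ, Finset.prod_range_zero] at h
    norm_num [Nat.even_iff] at h ⊢
    first | omega | (rw [Nat.card_eq_fintype_card]; omega)
  refine ⟨hG, ?_⟩
  letI : MulAction (SUs c 3) (Obj F) :=
    @MulAction.compHom (Equiv.Perm (Fin 3 → F)) (SUs c 3) (Set (Fin 3 → F)) _ Set.mulActionSet _ (toPerm c)
  let S : Fin 50 → Obj F := fun j => lineSet r j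
  have hsmul : ∀ (g : SUs c 3) (j : Fin 50), g • S j = (fun v => g.1.1 *ᵥ v) '' lineSet r j := fun g j => rfl
  have hSinj : Function.Injective S := fun a b e => Fin.ext (lineSet_inj r hr a.2 b.2 e)
  have hz : ∀ j, zeta r hr c hσ • S j = S j := by
    intro j
    have hz0 : val r omega ≠ 0 := fun e => rel_omega.2.2.2.1 (eq_zero_of_val r hr rel_omega.2.2.2.2.1 e)
    rw [hsmul]
    show _ = lineSet r j
    ext w
    constructor
    · rintro ⟨_, ⟨i, hi, hb, μ, hμ, rfl⟩, rfl⟩
      exact ⟨i, hi, hb, val r omega * μ, mul_ne_zero hz0 hμ, by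
        simp only [zeta_val, Matrix.smul_mulVec, Matrix.one_mulVec, smul_smul]⟩
    · rintro ⟨i, hi, hb, μ, hμ, rfl⟩
      refine ⟨(μ / val r omega) • vec r i, ⟨i, hi, hb, _, div_ne_zero hμ hz0, rfl⟩, ?_⟩
      simp only [zeta_val, Matrix.smul_mulVec, Matrix.one_mulVec, smul_smul, mul_div_cancel₀ μ hz0]
  have hcode : ∀ k : Fin 3, ∃ p : Equiv.Perm (Fin 50), Rep 50 (u35Gens.getD k 0) p ∧
      ∀ j, gel r hr c hσ k • S j = S (p j) := by
    intro k
    have hk : (k : ℕ) < u35Gens.length := by simp [u35Gens, u35_len.2.2.1]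
    obtain ⟨p, hp⟩ := u35_valid (u35Gens.getD k 0) (by rw [List.getD_eq_getElem _ _ hk]; exact List.getElem_mem hk)
    refine ⟨p, hp, fun j => ?_⟩
    rw [hsmul, gel_lineSet r hr c hσ k j.2, ← u35_act k j j.2, hp j]
  let L : Subgroup (SUs c 3) :=
    { carrier := {g | ∃ p ∈ genG 50 u35Gens, ∀ j, g • S j = S (p j)}
      one_mem' := ⟨1, one_mem _, fun j => by rw [one_smul]; rfl⟩
      mul_mem' := by
        rintro g h ⟨p, hp, hpg⟩ ⟨q, hq, hqh⟩
        exact ⟨p * q, mul_mem hp hq, fun j => by rw [mul_smul, hqh, hpg]; rfl⟩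
      inv_mem' := by
        rintro g ⟨p, hp, hpg⟩
        exact ⟨p⁻¹, inv_mem hp, fun j => by
          rw [inv_smul_eq_iff, hpg]
          exact congrArg S (p.apply_symm_apply j).symm⟩ }
  have hL : L = ⊤ := top_of_mem r hr c hσ φ hc rfl hker hcen hG hF L ⟨1, one_mem _, fun j => hz j⟩ fun k => by
    obtain ⟨p, hp, hact⟩ := hcode k
    have hk : (k : ℕ) < u35Gens.length := by simp [u35Gens, u35_len.2.2.1]
    exact ⟨p, Subgroup.subset_closure ⟨_, by rw [List.getD_eq_getElem _ _ hk]; exact List.getElem_mem hk, hp⟩, hact⟩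
  have hall : ∀ g : SUs c 3, ∃ p ∈ genG 50 u35Gens, ∀ j, g • S j = S (p j) := fun g => hL.ge (Subgroup.mem_top g)
  choose P hP hPs using hall
  have huniq : ∀ (g : SUs c 3) (q : Equiv.Perm (Fin 50)), (∀ j, g • S j = S (q j)) → P g = q :=
    fun g q hq => Equiv.ext fun j => hSinj ((hPs g j).symm.trans (hq j))
  let ψ : SUs c 3 →* genG 50 u35Gens := MonoidHom.mk' (fun g => ⟨P g, hP g⟩) fun a b => Subtype.ext
    (huniq _ _ fun j => by rw [mul_smul, hPs b, hPs a]; rfl)
  have hsurj : Function.Surjective ψ := by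
    rw [← MonoidHom.range_eq_top]
    refine Subgroup.map_injective (genG 50 u35Gens).subtype_injective ?_
    rw [← MonoidHom.range_eq_map (genG 50 u35Gens).subtype, Subgroup.range_subtype]
    refine le_antisymm (Subgroup.map_subtype_le _) ?_
    conv_lhs => rw [genG]
    rw [Subgroup.closure_le]
    rintro p ⟨d, hd, hrep⟩
    obtain ⟨a, ha, rfl⟩ := List.getElem_of_mem hd
    have ha3 : a < 3 := by simpa [u35Gens, u35_len.2.2.1] using ha
    obtain ⟨q, hq, hact⟩ := hcode ⟨a, ha3⟩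
    rw [List.getD_eq_getElem _ _ ha] at hq
    obtain rfl := hrep.unique hq
    exact ⟨ψ (gel r hr c hσ ⟨a, ha3⟩), ⟨_, rfl⟩, huniq _ _ hact⟩
  have hkz : φ.ker ≤ ψ.ker := by
    have : Subgroup.zpowers (zeta r hr c hσ) = φ.ker :=
      Subgroup.eq_of_le_of_card_ge ((Subgroup.zpowers_le).mpr (hcen (zeta_center r hr c hσ)))
        (by rw [Nat.card_zpowers, orderOf_zeta r hr c hσ, hker])
    rw [← this, Subgroup.zpowers_le]
    exact Subtype.ext (huniq _ _ fun j => hz j)
  let ψ' : Cfsg.PSU 3 F 5 →* genG 50 u35Gens := φ.liftOfSurjective hc.surj ⟨ψ, hkz⟩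
  have hψ' : ∀ g, ψ' (φ g) = ψ g := fun g => MonoidHom.liftOfRightInverse_comp_apply φ _ _ ⟨ψ, hkz⟩ g
  have hsurj' : Function.Surjective ψ' := fun p => by
    obtain ⟨g, rfl⟩ := hsurj p
    exact ⟨φ g, hψ' g⟩
  have hker' : ψ'.ker = ⊥ := by
    refine ψ'.normal_ker.eq_bot_or_eq_top.resolve_right fun htop => ?_
    obtain ⟨p, hp, hact⟩ := hcode ⟨0, by norm_num⟩
    have hk : (0 : ℕ) < u35Gens.length := by simp [u35Gens, u35_len.2.2.1]
    have hpm : p ∈ genG 50 u35Gens :=
      Subgroup.subset_closure ⟨_, by rw [List.getD_eq_getElem _ _ hk]; exact List.getElem_mem hk, hp⟩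
    obtain ⟨y, hy⟩ := hsurj' ⟨p, hpm⟩
    rw [MonoidHom.mem_ker.mp (htop.ge (Subgroup.mem_top y))] at hy
    have h1 : p = 1 := (congrArg Subtype.val hy).symm
    have hmove : ∃ j, j < 50 ∧ (CfsgLib.U35.act ⟨0, by norm_num⟩).getD j 0 ≠ j := by decide +kernel
    obtain ⟨j, hj, hne⟩ := hmove
    refine hne ?_
    rw [← u35_act ⟨0, by norm_num⟩ j hj, hp ⟨j, hj⟩, h1]
    rfl
  exact ⟨MulEquiv.ofBijective ψ' ⟨(MonoidHom.ker_eq_bot_iff ψ').mp hker', hsurj'⟩⟩

end PSU

/-- The stabiliser of the standard configuration and a point of the 352. -/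
abbrev KU35 : Subgroup ↥Co0 := KHs ⊓ MulAction.stabilizer ↥Co0 rHs3

theorem card_KU35 : Nat.card ↥KU35 = 126000 := by
  haveI : Finite ↥KHs := Nat.finite_of_card_ne_zero (by
    show Nat.card ↥(MulAction.stabilizer ↥Co0 (⟨uStd, uStd_mem⟩ : ↥leechLattice) ⊓ MulAction.stabilizer ↥Co0 (⟨tStd, tStd_mem⟩ : ↥leechLattice)) ≠ 0
    rw [card_hs]; norm_num)
  have h := (MulAction.stabilizer ↥KHs rHs3).card_mul_index
  rw [MulAction.index_stabilizer, cards_hs.2.2.2] at h
  have hK : Nat.card ↥KHs = 44352000 := card_hs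
  rw [hK] at h
  have e : Nat.card ↥KU35 = Nat.card ↥(MulAction.stabilizer ↥KHs rHs3) := Nat.card_congr
    { toFun := fun g => ⟨⟨g, g.2.1⟩, g.2.2⟩
      invFun := fun g => ⟨g.1.1, g.1.2, g.2⟩
      left_inv := fun g => rfl
      right_inv := fun g => rfl }
  omega

theorem stab_iso {F : Type} [Field F] [Fintype F] (hF : Fintype.card F = 25) :
    Nonempty (↥KU35 ≃* Cfsg.PSU 3 F 5) := by
  obtain ⟨hG, ⟨e⟩⟩ := psu_model hF
  haveI : Finite ↥KU35 := Nat.finite_of_card_ne_zero (by rw [card_KU35]; norm_num)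
  obtain ⟨-, hiso⟩ := exists_iso (n := 50) (H := KU35) u35_len.1 (words := u35Words) (codes := u35Gens)
    (vs := u35Vs) (ptsOK_of_parts fun i hi => ⟨0, 50, Nat.zero_le i, u35_len.1 ▸ hi, u35_pts⟩) u35_vs.1
    (fun g hg => by
      have hm : ∀ k < 3, u35Vs.getD k 0 ∈ u35Vs := fun k hk => by
        rw [List.getD_eq_getElem _ _ (u35_len.2.2.2.symm ▸ hk)]; exact List.getElem_mem _
      have hcoe : ∀ k < 3, (vecL (u35Vs.getD k 0) : GolayPt → ℤ) = vecN (u35Vs.getD k 0) := fun k hk =>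
        vecL_coe (List.all_eq_true.mp u35_vs.1 _ (hm k hk))
      have e0 : vecL (u35Vs.getD 0 0) = uL := Subtype.ext (by rw [hcoe 0 (by norm_num)]; exact funext u35_vs.2.1)
      have e1 : vecL (u35Vs.getD 1 0) = tL := Subtype.ext (by rw [hcoe 1 (by norm_num)]; exact funext u35_vs.2.2.1)
      have e2 : vecL (u35Vs.getD 2 0) = rHs3 := Subtype.ext (by
        rw [hcoe 2 (by norm_num), u35_vs.2.2.2, rootHs3.2.2.2.2.2]; rfl)
      have g0 := hg _ (hm 0 (by norm_num))
      have g1 := hg _ (hm 1 (by norm_num))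
      have g2 := hg _ (hm 2 (by norm_num))
      rw [e0] at g0
      rw [e1] at g1
      rw [e2] at g2
      exact ⟨⟨g0, g1⟩, g2⟩)
    (fun c hc => by
      obtain ⟨p, hp, rfl⟩ := List.mem_map.mp hc
      obtain ⟨a, ha, rfl⟩ := List.getElem_of_mem hp
      have ha3 : a < 3 := by rw [u35_len.2.2.1] at ha; exact ha
      have hw : u35Words.getD a [] ∈ u35Words := by
        rw [List.getD_eq_getElem _ _ (u35_len.2.1.symm ▸ ha3)]; exact List.getElem_mem _
      rw [← List.getD_eq_getElem (d := (0, 0)) _ ha]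
      exact ⟨_, hw, _, u35Paths a, _, u35_fix a ha3, u35_perm a ha3,
        fun i hi => List.all_eq_true.mp (u35_move a ha3) i (List.mem_range.mpr hi)⟩)
  obtain ⟨f⟩ := hiso (le_of_eq (by rw [card_KU35, ← Nat.card_congr e.toEquiv, hG]))
  exact ⟨f.trans e.symm⟩

end CfsgLeechOrb
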